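import Groth.Prelude.Def_ega3
import Groth.Agent.GrTildeLib.Eventually
import Groth.Agent.GrTildeLib.FiniteType
import Groth.Agent.ProjTwistLib.Ample
import Groth.Agent.AmpleEmb.Serre
import Groth.Agent.DevLib.Closed
import Groth.Agent.CurveLib.SmulPow

/-!
# Euler characteristics of twisted modules over an Artinian ring
-/

set_option autoImplicit false
set_option linter.style.haveILetI false
set_option backward.isDefEq.respectTransparency false

universe u

open CategoryTheory CategoryTheory.Limits AlgebraicGeometry TopologicalSpace Opposite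
open Groth.Agent.GrTildeLib Groth.Agent.CohBase

noncomputable section

namespace Groth.Agent.EulerArtLib

variable {A S : Type u} [CommRing A] [CommRing S] [Algebra A S] (𝒜 : ℕ → Submodule A S) [GradedAlgebra 𝒜]

theorem toGlobal_eq (a : A) : Coh.toGlobal ((Proj 𝒜) ↘ Spec (CommRingCat.of A)) a =
    (Proj 𝒜).presheaf.map (eqToHom (Proj.basicOpen_one 𝒜).symm).op ((Proj.awayToSection 𝒜 1)
      (HomogeneousLocalization.fromZeroRingHom 𝒜 _ (algebraMap A (𝒜 0) a))) := by
  show ((Proj.toSpecZero 𝒜 ≫ Spec.map (CommRingCat.ofHom (algebraMap A (𝒜 0)))).appTop) ((Scheme.ΓSpecIso (CommRingCat.of A)).inv a) = _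
  rw [Proj.toSpecZero]
  simp only [Category.assoc, ← Spec.map_comp, Scheme.Hom.comp_appTop, CommRingCat.comp_apply]
  rw [show Scheme.Hom.appTop (Proj.basicOpenToSpec 𝒜 1) = (Scheme.ΓSpecIso _).hom ≫ Proj.awayToSection 𝒜 1 ≫ (Proj.basicOpen 𝒜 1).topIso.inv from Proj.basicOpenToSpec_app_top 𝒜 1]
  simp only [CommRingCat.comp_apply]
  erw [← CommRingCat.comp_apply (Scheme.Hom.appTop (Spec.map _)), Scheme.ΓSpecIso_naturality]
  simp only [CommRingCat.comp_apply, Iso.inv_hom_id_apply, CommRingCat.hom_ofHom]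
  simp only [Scheme.Opens.topIso_inv, Scheme.isoOfEq_inv, Scheme.homOfLE_appTop, ← CommRingCat.comp_apply]
  simp [Scheme.Hom.appTop]
  have : IsIso (Scheme.Hom.app (Proj 𝒜).topIso.hom ⊤) := inferInstance
  refine (ConcreteCategory.bijective_of_isIso (Scheme.Hom.app (Proj 𝒜).topIso.hom ⊤)).1 ?_
  have e : ∀ y, Scheme.Hom.app (Proj 𝒜).topIso.hom ⊤ (Scheme.Hom.app (Proj 𝒜).topIso.inv ⊤ y) = y := fun y => by
    have := congr(Scheme.Hom.appTop $((Proj 𝒜).topIso.hom_inv_id))
    rw [Scheme.Hom.comp_appTop, Scheme.Hom.id_appTop] at this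
    exact ConcreteCategory.congr_hom this y
  erw [e]
  simp only [Scheme.topIso_hom, Scheme.Opens.ι_app, ← CommRingCat.comp_apply, Category.assoc, ← Functor.map_comp]
  rfl

theorem val_toGlobal (a : A) (x : (⊤ : (Proj 𝒜).Opens)) :
    ((Coh.toGlobal ((Proj 𝒜) ↘ Spec (CommRingCat.of A)) a : Twist.O (𝒜 := 𝒜) (op ⊤)).1 x).val =
      (Localization.mk (algebraMap A S a) 1 : Twist.Loc 𝒜 x.1) := by
  rw [toGlobal_eq]
  show HomogeneousLocalization.val (HomogeneousLocalization.mk _) = _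
  rw [HomogeneousLocalization.val_mk]
  rfl

theorem secOf_smulA {X : Scheme.{u}} [X.Over (Spec (CommRingCat.of A))] (N : X.Modules) (r : A)
    (c : Coh.HH X N 0) :
    CurveLib.secOf N (r • c) = (show Γ(X, ⊤) from Coh.toGlobal (X ↘ Spec (CommRingCat.of A)) r) • CurveLib.secOf N c := by
  show H0Equiv (⊤ : X.Opens) (Coh.toAb N) (HEquiv _ 0 (Sheaf.H.map (Coh.smulAb N _) 0 c)) = _
  rw [HEquiv_map, H0Equiv_hmap, Coh.smulAb_app]
  exact congrArg (fun a : Γ(X, ⊤) => a • CurveLib.secOf N c) (ConcreteCategory.congr_hom (X.presheaf.map_id _) _)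

variable {M : Type u} [AddCommGroup M] [Module A M] [Module S M] [IsScalarTower A S M]
  (ℳ : ℕ → Submodule A M) [DirectSum.Decomposition ℳ] [SetLike.GradedSMul 𝒜 ℳ]

theorem globalOf_smul {n : ℕ} (a : A) (m : ℳ n) :
    (show Γ(GrTilde.tilde 𝒜 ℳ (n : ℤ), ⊤) from GrTilde.globalOf 𝒜 ℳ (a • m)) =
      (show Γ(Proj 𝒜, ⊤) from Coh.toGlobal ((Proj 𝒜) ↘ Spec (CommRingCat.of A)) a) •
        (show Γ(GrTilde.tilde 𝒜 ℳ (n : ℤ), ⊤) from GrTilde.globalOf 𝒜 ℳ m) := by
  refine sect_ext fun x => ?_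
  rw [valAt_smul, valAt_globalOf, valAt_globalOf, val_toGlobal, LocalizedModule.mk_smul_mk, one_mul,
    algebraMap_smul]
  rfl

/-- The comparison with the module. -/
def globalLin (n : ℕ) : ℳ n →ₗ[A] Coh.HH (Proj 𝒜) (GrTilde.tilde 𝒜 ℳ (n : ℤ)) 0 where
  toFun m := (CurveLib.secOf _).symm (GrTilde.globalOf 𝒜 ℳ m)
  map_add' a b := by
    rw [← map_add]
    exact congrArg _ (sect_ext fun x => by
      rw [valAt_add, valAt_globalOf, valAt_globalOf, valAt_globalOf]
      exact (LocalizedModule.mk_add_mk).trans (by simp) |>.symm)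
  map_smul' a m := by
    rw [RingHom.id_apply, AddEquiv.symm_apply_eq, secOf_smulA, AddEquiv.apply_symm_apply]
    exact globalOf_smul 𝒜 ℳ a m

end Groth.Agent.EulerArtLib
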